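import Cfsg.Agent.Hall.Taussky
import Cfsg.Agent.H29.Dickson.GroupIso
import Cfsg.Prelude.Def_CaseTheorems
import Mathlib.GroupTheory.Perm.Cycle.Type

/-!
# Tools for fixity two: small centralizers in 2-groups, the sign of a semiregular permutation
-/

set_option autoImplicit false

namespace CfsgLib.FixityTwo

/-- A `2`-group with an involution whose centralizer has order four and a second commuting involution
is dihedral or quasidihedral. -/
theorem dihedral_or_quasi {S : Type*} [Group S] [Finite S] (hS : IsPGroup 2 S) {a z : S}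
    (ha : orderOf a = 2) (hz : orderOf z = 2) (hne : a ≠ z) (hcomm : a * z = z * a)
    (hC : Nat.card (Subgroup.centralizer ({a} : Set S)) = 4) :
    (∃ n : ℕ, Nonempty (S ≃* DihedralGroup n)) ∨ Cfsg.IsQuasiDihedral S := by
  classical
  haveI : Fact (Nat.Prime 2) := ⟨Nat.prime_two⟩
  obtain ⟨n, hn⟩ := IsPGroup.iff_card.mp hS
  set C := Subgroup.centralizer ({a} : Set S) with hCdef
  have hdvd : 4 ∣ 2 ^ n := by rw [← hn, ← hC]; exact Subgroup.card_subgroup_dvd_card C
  have hn2 : 2 ≤ n := by
    by_contra h
    have : 2 ^ n ≤ 2 ^ 1 := Nat.pow_le_pow_right two_pos (by omega)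
    have := Nat.le_of_dvd (by positivity) hdvd
    omega
  have haa : a * a = 1 := by rw [← pow_two, ← ha, pow_orderOf_eq_one]
  have hzz : z * z = 1 := by rw [← pow_two, ← hz, pow_orderOf_eq_one]
  have ha1 : a ≠ 1 := fun h => by rw [h, orderOf_one] at ha; omega
  have hz1 : z ≠ 1 := fun h => by rw [h, orderOf_one] at hz; omega
  have hzC : z ∈ C := Subgroup.mem_centralizer_singleton_iff.mpr hcomm.symm
  have haC : a ∈ C := Subgroup.mem_centralizer_singleton_iff.mpr rfl
  have hcover : ∀ c ∈ C, c = 1 ∨ c = a ∨ c = z ∨ c = a * z := by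
    intro c hc
    by_contra hno
    push Not at hno
    obtain ⟨h1, h2, h3, h4⟩ := hno
    have h5 : ({1, a, z, a * z, c} : Finset S).card = 5 := by
      have e1 : a * z ≠ 1 := fun h => hne (by rw [← mul_one a, ← hzz, ← mul_assoc, h, one_mul])
      rw [Finset.card_insert_of_notMem, Finset.card_insert_of_notMem, Finset.card_insert_of_notMem,
        Finset.card_insert_of_notMem, Finset.card_singleton]
      · simp [h4.symm]
      · simp [h3.symm, ha1]
      · simp [hne, h2.symm, hz1]
      · simp [ha1.symm, hz1.symm, e1.symm, h1.symm]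
    have hle : ({1, a, z, a * z, c} : Finset S).card ≤ Nat.card C := by
      rw [← Set.ncard_coe_finset, ← Nat.card_coe_set_eq]
      refine Nat.card_le_card_of_injective (fun u => (⟨u.1, ?_⟩ : C)) ?_
      · have hu := u.2
        simp only [Finset.coe_insert, Finset.coe_singleton, Set.mem_insert_iff,
          Set.mem_singleton_iff] at hu
        rcases hu with e | e | e | e | e <;> rw [e]
        · exact one_mem C
        · exact haC
        · exact hzC
        · exact mul_mem haC hzC
        · exact hc
      · intro u v huv; exact Subtype.ext (congrArg (fun w : C => (w : S)) huv)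
    omega
  have hsq : ∀ c ∈ C, c * c = 1 := by
    intro c hc
    rcases hcover c hc with rfl | rfl | rfl | rfl
    · exact one_mul 1
    · exact haa
    · exact hzz
    · calc a * z * (a * z) = a * (z * a) * z := by group
        _ = (a * a) * (z * z) := by rw [← hcomm]; group
        _ = 1 := by rw [haa, hzz, one_mul]
  rcases eq_or_lt_of_le hn2 with h2 | h3
  · left
    subst h2
    have hCtop : C = ⊤ := Subgroup.eq_top_of_card_eq C (by rw [hC, hn]; norm_num)
    exact ⟨2, CfsgLib.H29.Dickson.iso_dihedral a ha (by rw [hn]; norm_num)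
      fun g _ => hsq g (hCtop ▸ Subgroup.mem_top g)⟩
  have hclass : Group.nilpotencyClass S = n - 1 := by
    refine Cfsg.Agent.S4143.maximal_class_of_self_centralizing n S C hn (by rw [hC]; norm_num) ?_
    intro g hg
    exact Subgroup.mem_centralizer_singleton_iff.mpr
      ((Subgroup.mem_centralizer_iff.mp hg a haC).symm)
  obtain ⟨hi, -⟩ := CfsgLib.Hall.Taussky.index_commutator_of_class n (by omega) hn hclass
  obtain ⟨x, y, hx, hy, hxi, hcase⟩ := CfsgLib.Hall.Taussky.struct n (by omega) hn hi
  have hout : ∀ g : S, g ∉ Subgroup.zpowers x → ∃ i : ℤ, g = x ^ i * y := by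
    intro g hg
    have hy' : y⁻¹ ∉ Subgroup.zpowers x := fun h => hy (by simpa using inv_mem h)
    have h1 : g * y⁻¹ ∈ Subgroup.zpowers x :=
      (Subgroup.mul_mem_iff_of_index_two hxi).mpr (iff_of_false hg hy')
    obtain ⟨i, hi⟩ := h1
    have hi' : x ^ i = g * y⁻¹ := hi
    exact ⟨i, by rw [hi', inv_mul_cancel_right]⟩
  rcases hcase with ⟨hy2, hyx⟩ | ⟨hy2, hyx⟩ | ⟨h4, hy2, hyx⟩
  · left
    refine ⟨2 ^ (n - 1), CfsgLib.H29.Dickson.iso_dihedral x hx ?_ fun g hg => ?_⟩
    · rw [hn, ← pow_succ']; congr 1; omega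
    obtain ⟨i, rfl⟩ := hout g hg
    have h1 : y * x ^ i * y⁻¹ = x ^ (-i) := by rw [← conj_zpow, hyx, inv_zpow, zpow_neg]
    calc x ^ i * y * (x ^ i * y) = x ^ i * (y * x ^ i * y⁻¹) * y ^ 2 := by rw [pow_two]; group
      _ = 1 := by rw [h1, hy2, mul_one, ← zpow_add, add_neg_cancel, zpow_zero]
  · exfalso
    set t := x ^ 2 ^ (n - 2) with ht
    have hxn : x ^ 2 ^ (n - 1) = 1 := by rw [← hx]; exact pow_orderOf_eq_one x
    have ht2 : t * t = 1 := by
      rw [ht, ← pow_add, ← two_mul, ← pow_succ', show n - 2 + 1 = n - 1 by omega, hxn]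
    have ht1 : t ≠ 1 := by
      intro h
      have hd := orderOf_dvd_of_pow_eq_one h
      rw [hx] at hd
      have := (Nat.pow_dvd_pow_iff_le_right (by norm_num : 1 < 2)).mp hd
      omega
    have hat : a = t := by
      by_cases hax : a ∈ Subgroup.zpowers x
      · -- the involution of a cyclic group is unique
        by_contra hne'
        obtain ⟨i, hi⟩ := hax
        have hd : (orderOf x : ℤ) ∣ i * 2 := by
          rw [orderOf_dvd_iff_zpow_eq_one, zpow_mul]
          rw [show x ^ i = a from hi, zpow_two]; exact haa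
        rw [hx] at hd
        have e : (2 : ℤ) ^ (n - 1) = 2 ^ (n - 2) * 2 := by rw [← pow_succ]; congr 1; omega
        have hd' : (2 : ℤ) ^ (n - 2) ∣ i := by
          have := hd
          push_cast at this
          rw [e] at this
          exact Int.dvd_of_mul_dvd_mul_right (by norm_num) this
        obtain ⟨j, rfl⟩ := hd'
        have hi' : x ^ ((2 : ℤ) ^ (n - 2) * j) = a := hi
        rw [zpow_mul, show ((2 : ℤ) ^ (n - 2)) = ((2 ^ (n - 2) : ℕ) : ℤ) by push_cast; ring,
          zpow_natCast, ← ht] at hi'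
        rcases Int.even_or_odd j with ⟨k, rfl⟩ | ⟨k, rfl⟩
        · rw [← two_mul, zpow_mul, zpow_two, ht2, one_zpow] at hi'
          exact ha1 hi'.symm
        · rw [zpow_add, zpow_mul, zpow_two, ht2, one_zpow, one_mul, zpow_one] at hi'
          exact hne' hi'.symm
      · exfalso
        obtain ⟨i, hi⟩ := hout a hax
        apply ht1
        have h1 : y * x ^ i * y⁻¹ = x ^ (-i) := by rw [← conj_zpow, hyx, inv_zpow, zpow_neg]
        calc t = x ^ i * (y * x ^ i * y⁻¹) * y ^ 2 := by
              rw [h1, ← zpow_add, add_neg_cancel, zpow_zero, one_mul, hy2]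
          _ = a * a := by rw [hi, pow_two]; group
          _ = 1 := haa
    have htC : C = ⊤ := by
      rw [eq_top_iff]
      intro g _
      rw [hCdef, Subgroup.mem_centralizer_singleton_iff, hat]
      have hyt : y * t * y⁻¹ = t := by
        rw [ht, ← conj_pow, hyx, inv_pow]
        exact inv_eq_of_mul_eq_one_right ht2
      by_cases hg : g ∈ Subgroup.zpowers x
      · obtain ⟨i, rfl⟩ := hg
        exact (((Commute.refl x).zpow_left i).pow_right _).eq
      · obtain ⟨i, rfl⟩ := hout g hg
        have h1 : Commute y t := mul_inv_eq_iff_eq_mul.mp hyt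
        exact ((((Commute.refl x).zpow_left i).pow_right _).mul_left h1).eq
    rw [htC, Subgroup.card_top, hn] at hC
    have : (2 : ℕ) ^ 3 ≤ 2 ^ n := Nat.pow_le_pow_right two_pos h3
    omega
  · right
    refine ⟨n - 1, by omega, by rw [hn]; congr 1; omega, x, y, hx, orderOf_eq_prime hy2 ?_, ?_⟩
    · intro h; exact hy (h ▸ one_mem _)
    · rw [show n - 1 - 1 = n - 2 by omega]; exact hyx

open Equiv Equiv.Perm in
/-- The sign of a permutation all of whose nontrivial powers move its whole support. -/
theorem sign_semiregular {β : Type*} [Fintype β] [DecidableEq β] (P : Perm β)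
    (hP : ∀ j : ℕ, ∀ x ∈ P.support, (P ^ j) x = x → P ^ j = 1) :
    ∃ k : ℕ, P.support.card = k * orderOf P ∧ sign P = (-1) ^ (P.support.card + k) := by
  have hall : ∀ m ∈ P.cycleType, m = orderOf P := by
    intro m hm
    refine Nat.dvd_antisymm (dvd_of_mem_cycleType hm) ?_
    rw [cycleType_def, Multiset.mem_map] at hm
    obtain ⟨c, hc, rfl⟩ := hm
    obtain ⟨hcyc, hcP⟩ := mem_cycleFactorsFinset_iff.mp hc
    obtain ⟨x, hx⟩ := hcyc.nonempty_support
    have hxP : x ∈ P.support := by
      rw [mem_support] at hx ⊢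
      rw [← hcP x (mem_support.mpr hx)]; exact hx
    apply orderOf_dvd_of_pow_eq_one
    refine hP _ x hxP ?_
    have key : ∀ j : ℕ, (P ^ j) x = (c ^ j) x := by
      intro j
      induction j with
      | zero => rfl
      | succ j ih =>
        rw [pow_succ', pow_succ', Perm.mul_apply, Perm.mul_apply, ih]
        exact (hcP _ (pow_apply_mem_support.mpr hx)).symm
    rw [key, Function.comp_apply, ← hcyc.orderOf, pow_orderOf_eq_one]
    rfl
  refine ⟨Multiset.card P.cycleType, ?_, ?_⟩
  · rw [← sum_cycleType, Multiset.eq_replicate_of_mem hall, Multiset.sum_replicate,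
      Multiset.card_replicate, smul_eq_mul]
  · rw [sign_of_cycleType, sum_cycleType]

end CfsgLib.FixityTwo
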