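import Cfsg.Agent.FixityTwo.Basic
import Cfsg.Prelude.Def_Solvable
import Mathlib.GroupTheory.Sylow
import Mathlib.GroupTheory.Nilpotent
import Mathlib.GroupTheory.GroupAction.Quotient

/-!
# Sylow `2`-subgroups of transitive groups of fixity two
-/

set_option autoImplicit false

open scoped Pointwise

namespace CfsgLib.FixityTwo

variable {G : Type*} [Group G] [Finite G] {Ω : Type*} [Fintype Ω] [MulAction G Ω] [FaithfulSMul G Ω]

omit [Finite G] [FaithfulSMul G Ω] in
theorem three_points (hfix : ∀ g : G, g ≠ 1 → Nat.card (MulAction.fixedBy Ω g) ≤ 2) {g : G}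
    {x y z : Ω} (hx : g • x = x) (hy : g • y = y) (hz : g • z = z)
    (hxy : x ≠ y) (hxz : x ≠ z) (hyz : y ≠ z) : g = 1 := by
  classical
  by_contra hg
  have h3 : ({x, y, z} : Finset Ω).card = 3 :=
    Finset.card_eq_three.mpr ⟨x, y, z, hxy, hxz, hyz, rfl⟩
  have hle : ({x, y, z} : Finset Ω).card ≤ Nat.card (MulAction.fixedBy Ω g) := by
    rw [← Set.ncard_coe_finset, Nat.card_coe_set_eq]
    refine Set.ncard_le_ncard ?_ (Set.toFinite _)
    intro w hw
    simp only [Finset.coe_insert, Finset.coe_singleton, Set.mem_insert_iff, Set.mem_singleton_iff] at hw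
    rcases hw with rfl | rfl | rfl <;> assumption
  have := hfix g hg
  omega

omit [Finite G] [FaithfulSMul G Ω] in
theorem pow_smul_eq {g : G} {x : Ω} (h : g • x = x) : ∀ j : ℕ, g ^ j • x = x := by
  intro j
  induction j with
  | zero => rw [pow_zero, one_smul]
  | succ j ih => rw [pow_succ, mul_smul, h, ih]

theorem exists_normalizing (S : Sylow 2 G) {Q : Subgroup G} (hQS : Q ≤ (S : Subgroup G))
    (hne : Q ≠ (S : Subgroup G)) :
    ∃ s ∈ (S : Subgroup G), s ∉ Q ∧ ∀ u, u ∈ Q ↔ s * u * s⁻¹ ∈ Q := by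
  haveI := S.isPGroup'.isNilpotent
  have hlt : Q.subgroupOf (S : Subgroup G) < ⊤ :=
    lt_top_iff_ne_top.mpr fun h => hne (le_antisymm hQS (Subgroup.subgroupOf_eq_top.mp h))
  obtain ⟨⟨s, hs⟩, hsN, hsQ⟩ := SetLike.exists_of_lt (normalizerCondition_of_isNilpotent _ hlt)
  refine ⟨s, hs, hsQ, fun u => ?_⟩
  constructor
  · intro hu
    exact (Subgroup.mem_normalizer_iff.mp hsN ⟨u, hQS hu⟩).mp hu
  · intro hu
    have huS : u ∈ (S : Subgroup G) := by
      have := mul_mem (mul_mem (inv_mem hs) (hQS hu)) hs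
      simpa [mul_assoc] using this
    exact (Subgroup.mem_normalizer_iff.mp hsN ⟨u, huS⟩).mpr hu

theorem two_sub_type {S : Sylow 2 G} {a z : G} (ha : a ∈ (S : Subgroup G)) (hz : z ∈ (S : Subgroup G))
    (ha2 : orderOf a = 2) (hz2 : orderOf z = 2) (hne : a ≠ z) (hcomm : a * z = z * a)
    (hC : Nat.card ((S : Subgroup G) ⊓ Subgroup.centralizer ({a} : Set G) : Subgroup G) = 4) :
    (∃ n : ℕ, Nonempty (↥(S : Subgroup G) ≃* DihedralGroup n)) ∨
      Cfsg.IsQuasiDihedral ↥(S : Subgroup G) := by
  refine dihedral_or_quasi S.isPGroup' (a := ⟨a, ha⟩) (z := ⟨z, hz⟩) (by rw [Subgroup.orderOf_mk, ha2])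
    (by rw [Subgroup.orderOf_mk, hz2]) (fun h => hne (congrArg Subtype.val h)) (Subtype.ext hcomm) ?_
  rw [← hC]
  refine Nat.card_congr ⟨fun c => ⟨c.1.1, c.1.2, ?_⟩, fun c => ⟨⟨c.1, c.2.1⟩, ?_⟩,
    fun c => rfl, fun c => rfl⟩
  · exact Subgroup.mem_centralizer_singleton_iff.mpr
      (congrArg Subtype.val (Subgroup.mem_centralizer_singleton_iff.mp c.2))
  · exact Subgroup.mem_centralizer_singleton_iff.mpr
      (Subtype.ext (Subgroup.mem_centralizer_singleton_iff.mp c.2.2 : c.1 * a = a * c.1))

/-- the regular sign -/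
theorem exists_hom_cyclic (S : Sylow 2 G) {Q : Subgroup G} (hQS : Q ≤ (S : Subgroup G))
    (hQ2 : 2 * Nat.card Q = Nat.card (S : Subgroup G)) {c : G} (hc : c ∈ (S : Subgroup G))
    (hco : orderOf c = Nat.card (S : Subgroup G)) :
    ∃ ε : G →* ℤˣ, (∀ q ∈ Q, ε q = 1) ∧ ε c = -1 := by
  classical
  haveI := Fintype.ofFinite G
  let ε : G →* ℤˣ := Equiv.Perm.sign.comp (MulAction.toPermHom G G)
  have hidx : ¬ 2 ∣ (S : Subgroup G).index := S.not_dvd_index
  have hG : Nat.card (S : Subgroup G) * (S : Subgroup G).index = Fintype.card G := by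
    rw [← Nat.card_eq_fintype_card]; exact Subgroup.card_mul_index _
  have hval : ∀ g : G, g ≠ 1 → ∃ k : ℕ, k * orderOf g = Fintype.card G ∧
      ε g = (-1) ^ (Fintype.card G + k) := by
    intro g hg
    have hsupp : (MulAction.toPerm g : Equiv.Perm G).support = Finset.univ := by
      ext x
      simp [Equiv.Perm.mem_support, hg]
    have hord : orderOf (MulAction.toPerm g : Equiv.Perm G) = orderOf g :=
      orderOf_injective (MulAction.toPermHom G G) MulAction.toPerm_injective g
    obtain ⟨k, h1, h2⟩ := sign_semiregular (MulAction.toPerm g : Equiv.Perm G) (fun j x _ hx => by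
      have e : (MulAction.toPerm g : Equiv.Perm G) ^ j = MulAction.toPerm (g ^ j) :=
        (map_pow (MulAction.toPermHom G G) g j).symm
      rw [e] at hx ⊢
      have : g ^ j = 1 := by simpa using hx
      rw [this]
      exact map_one (MulAction.toPermHom G G))
    rw [hsupp, Finset.card_univ] at h1 h2
    rw [hord] at h1
    exact ⟨k, h1.symm, h2⟩
  refine ⟨ε, fun q hq => ?_, ?_⟩
  · by_cases h1 : q = 1
    · rw [h1, map_one]
    obtain ⟨k, hk, he⟩ := hval q h1
    have hd : orderOf q ∣ Nat.card Q := by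
      rw [← Subgroup.orderOf_mk q hq]; exact orderOf_dvd_natCard _
    obtain ⟨e, he'⟩ := hd
    have hkeven : Even k := by
      refine ⟨e * (S : Subgroup G).index, ?_⟩
      refine Nat.eq_of_mul_eq_mul_right (orderOf_pos q) ?_
      rw [hk, ← hG, ← hQ2, he']; ring
    have hGeven : Even (Fintype.card G) := ⟨Nat.card Q * (S : Subgroup G).index, by
      rw [← hG, ← hQ2]; ring⟩
    rw [he, (hGeven.add hkeven).neg_one_pow]
  · have hc1 : c ≠ 1 := fun h => by
      rw [h, orderOf_one] at hco
      omega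
    obtain ⟨k, hk, he⟩ := hval c hc1
    have hkodd : Odd k := by
      rw [Nat.odd_iff]
      have : k = (S : Subgroup G).index := by
        refine Nat.eq_of_mul_eq_mul_right (orderOf_pos c) ?_
        rw [hk, hco, ← hG, mul_comm]
      omega
    have hGeven : Even (Fintype.card G) := ⟨Nat.card Q * (S : Subgroup G).index, by
      rw [← hG, ← hQ2]; ring⟩
    rw [he, (hGeven.add_odd hkodd).neg_one_pow]

/-- the sign on the points -/
theorem exists_hom_points (hfix : ∀ g : G, g ≠ 1 → Nat.card (MulAction.fixedBy Ω g) ≤ 2)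
    (S : Sylow 2 G) {Q : Subgroup G} (hQS : Q ≤ (S : Subgroup G))
    (hQ2 : 2 * Nat.card Q = Nat.card (S : Subgroup G)) (hQ4 : 2 ∣ Nat.card Q) {α β : Ω} (hαβ : α ≠ β)
    (hQfix : ∀ q ∈ Q, q • α = α ∧ q • β = β) {s : G} (hs : s ∈ (S : Subgroup G))
    (hsα : s • α = β) (hsβ : s • β = α)
    (hfree : ∀ u ∈ (S : Subgroup G), ∀ x, x ≠ α → x ≠ β → u • x = x → u = 1)
    (hn : ∃ K, Fintype.card Ω = 2 + K * Nat.card (S : Subgroup G))
    (hnc : ∀ u ∈ (S : Subgroup G), orderOf u ∣ Nat.card Q) :
    ∃ ε : G →* ℤˣ, (∀ q ∈ Q, ε q = 1) ∧ ε s = -1 := by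
  classical
  obtain ⟨K, hK⟩ := hn
  have hK0 : 0 < K := by
    by_contra h
    have hK' : K = 0 := by omega
    rw [hK', zero_mul, add_zero] at hK
    -- a faithful group on two points has at most two elements
    have h1 : Nat.card G ∣ 2 := by
      have := Subgroup.card_dvd_of_injective (MulAction.toPermHom G Ω) MulAction.toPerm_injective
      rw [Nat.card_perm, Nat.card_eq_fintype_card (α := Ω), hK] at this
      exact this
    have h2 := Nat.le_of_dvd two_pos ((Subgroup.card_subgroup_dvd_card (S : Subgroup G)).trans h1)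
    have h3 := Nat.le_of_dvd Nat.card_pos hQ4
    omega
  let ε : G →* ℤˣ := Equiv.Perm.sign.comp (MulAction.toPermHom G Ω)
  have hcompl : (Finset.univ \ {α, β} : Finset Ω).card = K * Nat.card (S : Subgroup G) := by
    rw [Finset.card_sdiff_of_subset (Finset.subset_univ _), Finset.card_univ, Finset.card_pair hαβ, hK]
    omega
  have heven : ∀ m k : ℕ, K * Nat.card (S : Subgroup G) = k * m → 0 < m → m ∣ Nat.card Q → Even k := by
    intro m k hk hm hd
    obtain ⟨e, he⟩ := hd
    refine ⟨K * e, Nat.eq_of_mul_eq_mul_right hm ?_⟩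
    rw [← hk, ← hQ2, he]; ring
  have hSeven : Even (K * Nat.card (S : Subgroup G)) := ⟨K * Nat.card Q, by rw [← hQ2]; ring⟩
  refine ⟨ε, fun q hq => ?_, ?_⟩
  · by_cases h1 : q = 1
    · rw [h1, map_one]
    set P : Equiv.Perm Ω := MulAction.toPerm q with hP
    have hsupp : P.support = Finset.univ \ {α, β} := by
      ext x
      simp only [Equiv.Perm.mem_support, Finset.mem_sdiff, Finset.mem_univ, true_and,
        Finset.mem_insert, Finset.mem_singleton, hP, MulAction.toPerm_apply]
      constructor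
      · rintro h (rfl | rfl)
        · exact h (hQfix q hq).1
        · exact h (hQfix q hq).2
      · intro h e
        push Not at h
        exact h1 (hfree q (hQS hq) x h.1 h.2 e)
    have hord : orderOf P = orderOf q :=
      orderOf_injective (MulAction.toPermHom G Ω) MulAction.toPerm_injective q
    obtain ⟨k, e1, e2⟩ := sign_semiregular P (fun j x hx hjx => by
      have e : P ^ j = MulAction.toPerm (q ^ j) := (map_pow (MulAction.toPermHom G Ω) q j).symm
      rw [e] at hjx ⊢
      rw [hsupp] at hx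
      simp only [Finset.mem_sdiff, Finset.mem_univ, true_and, Finset.mem_insert,
        Finset.mem_singleton, not_or] at hx
      have : q ^ j = 1 := hfree _ (pow_mem (hQS hq) j) x hx.1 hx.2 hjx
      rw [this]; exact map_one (MulAction.toPermHom G Ω))
    rw [hsupp, hcompl] at e1 e2
    rw [hord] at e1
    show Equiv.Perm.sign P = 1
    rw [e2, (hSeven.add (heven _ k e1 (orderOf_pos q) (hnc q (hQS hq)))).neg_one_pow]
  · set P : Equiv.Perm Ω := MulAction.toPerm s with hP
    set P' : Equiv.Perm Ω := Equiv.swap α β * P with hP'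
    have hPapp : ∀ x, P x = s • x := fun x => rfl
    have hsupp : P'.support = Finset.univ \ {α, β} := by
      ext x
      simp only [Equiv.Perm.mem_support, Finset.mem_sdiff, Finset.mem_univ, true_and,
        Finset.mem_insert, Finset.mem_singleton, hP', Equiv.Perm.mul_apply, hPapp]
      constructor
      · rintro h (rfl | rfl)
        · exact h (by rw [hsα, Equiv.swap_apply_right])
        · exact h (by rw [hsβ, Equiv.swap_apply_left])
      · intro h e
        push Not at h
        have h1 : s • x ≠ α := fun e' => h.2 (smul_left_cancel s (e'.trans hsβ.symm))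
        have h2 : s • x ≠ β := fun e' => h.1 (smul_left_cancel s (e'.trans hsα.symm))
        rw [Equiv.swap_apply_of_ne_of_ne h1 h2] at e
        have := hfree s hs x h.1 h.2 e
        rw [this, one_smul] at hsα
        exact hαβ hsα
    have hcomm : Commute (Equiv.swap α β) P := by
      have h := Equiv.swap_apply_apply P α β
      rw [hPapp, hPapp, hsα, hsβ, Equiv.swap_comm] at h
      show Equiv.swap α β * P = P * Equiv.swap α β
      conv_lhs => rw [h]
      group
    have hodd : ∀ j, s ^ j = 1 → Even j := by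
      intro j hj
      rw [even_iff_two_dvd]
      refine Dvd.dvd.trans ?_ (orderOf_dvd_of_pow_eq_one hj)
      obtain ⟨e, he⟩ := IsPGroup.iff_orderOf.mp S.isPGroup' ⟨s, hs⟩
      rw [Subgroup.orderOf_mk] at he
      have : e ≠ 0 := fun h0 => by
        rw [h0, pow_zero, orderOf_eq_one_iff] at he
        rw [he, one_smul] at hsα
        exact hαβ hsα
      rw [he]; exact dvd_pow_self 2 this
    have hswap2 : Equiv.swap α β * Equiv.swap α β = 1 := Equiv.swap_mul_self α β
    have hpow : ∀ j, ∀ x, x ≠ α → x ≠ β → (P' ^ j) x = x → P' ^ j = 1 := by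
      intro j x hxα hxβ hjx
      rw [hP', hcomm.mul_pow] at hjx ⊢
      have e : P ^ j = MulAction.toPerm (s ^ j) := (map_pow (MulAction.toPermHom G Ω) s j).symm
      rw [e] at hjx ⊢
      have hsj : s ^ j = 1 := by
        refine hfree _ (pow_mem hs j) x hxα hxβ ?_
        rcases Nat.even_or_odd j with ⟨i, rfl⟩ | ⟨i, rfl⟩
        · rw [← two_mul, pow_mul, pow_two, hswap2, one_pow, one_mul] at hjx
          rw [← two_mul]; exact hjx
        · rw [pow_succ, pow_mul, pow_two, hswap2, one_pow, one_mul, Equiv.Perm.mul_apply,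
            MulAction.toPerm_apply, Equiv.swap_apply_def] at hjx
          split_ifs at hjx with h1 h2
          · exact absurd hjx.symm hxβ
          · exact absurd hjx.symm hxα
          · exact hjx
      obtain ⟨i, hi⟩ := hodd j hsj
      rw [hsj, hi, ← two_mul, pow_mul, pow_two, hswap2, one_pow, one_mul]
      exact map_one (MulAction.toPermHom G Ω)
    obtain ⟨x₀, hx₀⟩ : (Finset.univ \ {α, β} : Finset Ω).Nonempty := by
      rw [← Finset.card_pos, hcompl]; exact Nat.mul_pos hK0 Nat.card_pos
    simp only [Finset.mem_sdiff, Finset.mem_univ, true_and, Finset.mem_insert,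
      Finset.mem_singleton, not_or] at hx₀
    obtain ⟨k, e1, e2⟩ := sign_semiregular P' (fun j x hx => by
      rw [hsupp] at hx
      simp only [Finset.mem_sdiff, Finset.mem_univ, true_and, Finset.mem_insert,
        Finset.mem_singleton, not_or] at hx
      exact hpow j x hx.1 hx.2)
    have hord : orderOf P' ∣ Nat.card Q := by
      refine Dvd.dvd.trans ?_ (hnc s hs)
      apply orderOf_dvd_of_pow_eq_one
      obtain ⟨i, hi⟩ := hodd _ (pow_orderOf_eq_one s)
      have e : P ^ orderOf s = MulAction.toPerm (s ^ orderOf s) :=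
        (map_pow (MulAction.toPermHom G Ω) s _).symm
      rw [hP', hcomm.mul_pow, e, pow_orderOf_eq_one, hi, ← two_mul, pow_mul, pow_two, hswap2,
        one_pow, one_mul]
      exact map_one (MulAction.toPermHom G Ω)
    rw [hsupp, hcompl] at e1 e2
    have hsgn : Equiv.Perm.sign P' = 1 := by
      rw [e2, (hSeven.add (heven _ k e1 (orderOf_pos P') hord)).neg_one_pow]
    show Equiv.Perm.sign P = -1
    rw [hP', map_mul, Equiv.Perm.sign_swap hαβ] at hsgn
    rw [← mul_one (Equiv.Perm.sign P), ← one_mul (-1 : ℤˣ)]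
    rcases Int.units_eq_one_or (Equiv.Perm.sign P) with h | h
    · rw [h] at hsgn; exact absurd hsgn (by decide)
    · rw [h]; rfl

theorem frobenius_of_hom {α₀ : Ω} (htr : MulAction.IsPretransitive G Ω)
    (hfix : ∀ g : G, g ≠ 1 → Nat.card (MulAction.fixedBy Ω g) ≤ 2)
    (S : Sylow 2 G) {Q : Subgroup G} (hQ : Q = (S : Subgroup G) ⊓ MulAction.stabilizer G α₀)
    (hQne : Q ≠ ⊥) (hQ2 : 2 * Nat.card Q = Nat.card (S : Subgroup G)) {β : Ω} (hαβ : α₀ ≠ β)
    (hQfix : ∀ q ∈ Q, q • β = β) {s : G} (hsα : s • α₀ = β) (heven : 2 ∣ Fintype.card Ω)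
    (ε : G →* ℤˣ) (hεQ : ∀ q ∈ Q, ε q = 1) {c : G} (hεc : ε c = -1)
    (hsS : s ∈ (S : Subgroup G)) (hcS : c ∈ (S : Subgroup G)) :
    ∃ N : Subgroup G, N.Normal ∧ N.index = 2 ∧ ∃ H : Subgroup ↥N, Cfsg.IsFrobeniusComplement H := by
  classical
  haveI : Fact (Nat.Prime 2) := ⟨Nat.prime_two⟩
  set N := ε.ker with hN
  have hNidx : N.index = 2 := by
    rw [hN, Subgroup.index_ker]
    have : ε.range = ⊤ := by
      rw [eq_top_iff]
      intro u _
      rcases Int.units_eq_one_or u with rfl | rfl
      · exact one_mem _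
      · exact ⟨c, hεc⟩
    rw [this, Subgroup.card_top, Nat.card_eq_fintype_card, Fintype.card_units_int]
  set H := MulAction.stabilizer G α₀ with hH
  have hQH : Q ≤ H := hQ ▸ inf_le_right
  have hn : H.index = Fintype.card Ω := by
    rw [hH, MulAction.index_stabilizer, MulAction.orbit_eq_univ, Set.ncard_univ, Nat.card_eq_fintype_card]
  have hodd : ¬ 2 ∣ Q.relIndex H := by
    intro h2
    obtain ⟨a, ha⟩ := h2
    obtain ⟨b, hb⟩ := heven
    have e1 : Nat.card Q * Q.relIndex H = Nat.card H := by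
      rw [← Nat.card_congr (Subgroup.subgroupOfEquivOfLe hQH).toEquiv]
      exact Subgroup.card_mul_index _
    have e2 := H.card_mul_index
    have e3 := (S : Subgroup G).card_mul_index
    rw [← e1, hn, ha, hb, ← e3, ← hQ2] at e2
    refine S.not_dvd_index ⟨a * b, ?_⟩
    refine Nat.eq_of_mul_eq_mul_left (show 0 < 2 * Nat.card Q by
      have := Nat.card_pos (α := Q); omega) ?_
    rw [← e2]; ring
  have hHN : H ≤ N := by
    rw [← Subgroup.relIndex_eq_one]
    have h1 : N.relIndex H ∣ 2 := hNidx ▸ Subgroup.relIndex_dvd_index_of_normal N H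
    rcases (Nat.dvd_prime Nat.prime_two).mp h1 with h | h
    · exact h
    · exfalso
      exact hodd (h ▸ Subgroup.relIndex_dvd_of_le_left H (fun q hq => hεQ q hq : Q ≤ N))
  have hsN : s ∉ N := by
    intro hsn
    have hcQ : c ∈ Q ∨ s⁻¹ * c ∈ Q := by
      by_cases h : c • α₀ = α₀
      · exact Or.inl (hQ ▸ ⟨hcS, h⟩)
      · right
        rw [hQ]
        refine Subgroup.mem_inf.mpr ⟨(S : Subgroup G).mul_mem ((S : Subgroup G).inv_mem hsS) hcS, ?_⟩
        show (s⁻¹ * c) • α₀ = α₀
        have hQS : Q ≤ (S : Subgroup G) := hQ ▸ inf_le_left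
        have hidx : (Q.subgroupOf (S : Subgroup G)).index = 2 := by
          have := (Q.subgroupOf (S : Subgroup G)).card_mul_index
          rw [Nat.card_congr (Subgroup.subgroupOfEquivOfLe hQS).toEquiv, ← hQ2, mul_comm 2] at this
          exact Nat.eq_of_mul_eq_mul_left Nat.card_pos this
        have hcnot : (⟨c, hcS⟩ : (S : Subgroup G)) ∉ Q.subgroupOf (S : Subgroup G) := fun hc =>
          h ((hQH hc : c ∈ H))
        have hsnot : (⟨s, hsS⟩ : (S : Subgroup G))⁻¹ ∉ Q.subgroupOf (S : Subgroup G) := fun hs' =>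
          hαβ (by
            have h0 : s ∈ H := by simpa using H.inv_mem (hQH hs' : s⁻¹ ∈ H)
            rw [← hsα]; exact h0.symm)
        exact (hQH ((Subgroup.mul_mem_iff_of_index_two hidx).mpr (iff_of_false hsnot hcnot) :
          s⁻¹ * c ∈ Q))
    rcases hcQ with h | h
    · have := hεQ c h; rw [hεc] at this; exact absurd this (by decide)
    · have := hεQ _ h
      rw [map_mul, map_inv, hεc, (MonoidHom.mem_ker.mp hsn : ε s = 1)] at this
      exact absurd this (by decide)
  have hβout : ∀ m ∈ N, m • α₀ ≠ β := by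
    intro m hm h
    apply hsN
    have h1 : s⁻¹ * m ∈ H := by
      show (s⁻¹ * m) • α₀ = α₀
      rw [mul_smul, h, inv_smul_eq_iff, hsα]
    have h2 : s = m * (s⁻¹ * m)⁻¹ := by group
    rw [h2]; exact mul_mem hm (inv_mem (hHN h1))
  refine ⟨N, MonoidHom.normal_ker ε, hNidx, H.subgroupOf N, ?_, ?_, ?_⟩
  · intro h
    rw [Subgroup.subgroupOf_eq_bot] at h
    exact hQne (le_bot_iff.mp (h hQH fun q hq => MonoidHom.mem_ker.mpr (hεQ q hq)))
  · intro h
    rw [Subgroup.subgroupOf_eq_top] at h
    -- a normal subgroup fixing a point is trivial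
    have hN1 : N = ⊥ := by
      rw [eq_bot_iff]
      intro m hm
      refine Subgroup.mem_bot.mpr (FaithfulSMul.eq_of_smul_eq_smul (α := Ω) fun x => ?_)
      obtain ⟨g, rfl⟩ := htr.exists_smul_eq α₀ x
      have hm' : g⁻¹ * m * g ∈ N := by
        have := (MonoidHom.normal_ker ε).conj_mem m hm g⁻¹
        rw [inv_inv] at this
        exact this
      have : (g⁻¹ * m * g) • α₀ = α₀ := h hm'
      rw [mul_smul, mul_smul, inv_smul_eq_iff] at this
      exact this.trans (one_smul G _).symm
    exact hQne (le_bot_iff.mp (hN1 ▸ (fun q hq => hεQ q hq : Q ≤ N)))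
  · rintro ⟨g, hg⟩ hgH
    have hgα : g • α₀ ≠ α₀ := fun h => hgH h
    rw [eq_bot_iff]
    rintro ⟨x, hxN⟩ ⟨hxH, hxc⟩
    obtain ⟨⟨u, huN⟩, huH, hux⟩ := hxc
    have hux' : g * u * g⁻¹ = x := congrArg Subtype.val hux
    by_contra hne
    have hx1 : x ≠ 1 := fun h => hne (Subgroup.mem_bot.mpr (Subtype.ext h))
    have hxα : x • α₀ = α₀ := hxH
    have hxα' : x • (g • α₀) = g • α₀ := by
      rw [← hux', mul_smul, mul_smul, inv_smul_smul]
      exact congrArg (g • ·) (huH : u • α₀ = α₀)
    obtain ⟨r, hr, hrd⟩ := Nat.exists_prime_and_dvd (fun h => hx1 (orderOf_eq_one_iff.mp h))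
    haveI := Fact.mk hr
    set y := x ^ (orderOf x / r) with hy
    have hyo : orderOf y = r := orderOf_pow_orderOf_div (orderOf_pos x).ne' hrd
    have hy1 : y ≠ 1 := fun h => by rw [h, orderOf_one] at hyo; exact hr.ne_one hyo.symm
    have hyα : y • α₀ = α₀ := pow_smul_eq hxα _
    have hyα' : y • (g • α₀) = g • α₀ := pow_smul_eq hxα' _
    have hyH : y ∈ H := hyα
    have hyN : y ∈ N := hHN hyH
    by_cases hr2 : r = 2
    · -- an involution of the stabilizer is conjugate into `Q`
      subst hr2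
      have hQp : IsPGroup 2 (Q.subgroupOf H) :=
        IsPGroup.of_injective (S.isPGroup'.to_le (hQ ▸ inf_le_left))
          (Subgroup.subgroupOfEquivOfLe hQH).toMonoidHom (Subgroup.subgroupOfEquivOfLe hQH).injective
      let P : Sylow 2 H := hQp.toSylow hodd
      have hyp : IsPGroup 2 (Subgroup.zpowers (⟨y, hyH⟩ : H)) :=
        IsPGroup.of_card (n := 1) (by rw [Nat.card_zpowers, Subgroup.orderOf_mk, hyo, pow_one])
      obtain ⟨R, hR⟩ := hyp.exists_le_sylow
      obtain ⟨h, hh⟩ := MulAction.exists_smul_eq H P R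
      have h1 : (⟨y, hyH⟩ : H) ∈ ((h • P : Sylow 2 H) : Subgroup H) := by
        rw [hh]; exact hR (Subgroup.mem_zpowers _)
      obtain ⟨q, hq, hqy⟩ := h1
      have hqy' : (h : G) * q * (h : G)⁻¹ = y := congrArg Subtype.val hqy
      have hhα : (h : G) • α₀ = α₀ := h.2
      have hyβ : y • ((h : G) • β) = (h : G) • β := by
        rw [← hqy', mul_smul, mul_smul, inv_smul_smul, show (q : G) • β = β from hQfix q hq]
      refine hy1 (three_points hfix hyα hyα' hyβ (Ne.symm hgα) ?_ ?_)
      · intro e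
        have h3 : (h : G) • α₀ = (h : G) • β := hhα.trans e
        exact hαβ (smul_left_cancel _ h3)
      · intro e
        refine hβout ((h : G)⁻¹ * g) (mul_mem (inv_mem (hHN h.2)) hg) ?_
        rw [mul_smul, e, inv_smul_smul]
    · -- odd order: count the fixed points on the two orbits of `N`
      set O : Set Ω := MulAction.orbit N α₀ with hO
      have hinv : ∀ z, (MulAction.toPerm y : Equiv.Perm Ω) z ∈ O ↔ z ∈ O := by
        intro z
        show y • z ∈ O ↔ z ∈ O
        constructor
        · rintro ⟨⟨m, hm⟩, hmz⟩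
          refine ⟨⟨y⁻¹ * m, mul_mem (inv_mem hyN) hm⟩, ?_⟩
          show (y⁻¹ * m) • α₀ = z
          rw [mul_smul, show m • α₀ = y • z from hmz, inv_smul_smul]
        · rintro ⟨⟨m, hm⟩, rfl⟩
          exact ⟨⟨y * m, mul_mem hyN hm⟩, mul_smul _ _ _⟩
      set P : Equiv.Perm Ω := MulAction.toPerm y with hP
      have hPr : P ^ r ^ 1 = 1 := by
        rw [pow_one, hP, ← MulAction.toPermHom_apply, ← map_pow, ← hyo, pow_orderOf_eq_one, map_one]
      have hcardO : 2 * Fintype.card O = Fintype.card Ω := by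
        have h1 : (MulAction.stabilizer N α₀).index = Fintype.card O := by
          rw [MulAction.index_stabilizer, hO, ← Nat.card_coe_set_eq, Nat.card_eq_fintype_card]
        have h2 : MulAction.stabilizer N α₀ = H.subgroupOf N := rfl
        have h3 : (H.subgroupOf N).index * N.index = H.index := Subgroup.relIndex_mul_index hHN
        rw [← h1, h2, ← hn, ← h3, hNidx, mul_comm]
      have hcardC : Fintype.card ↥(Oᶜ : Set Ω) = Fintype.card O := by
        rw [Fintype.card_compl_set]; omega
      let σ₁ : Equiv.Perm O := P.subtypePerm hinv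
      have hinv' : ∀ z, P z ∈ (Oᶜ : Set Ω) ↔ z ∈ (Oᶜ : Set Ω) := fun z => not_congr (hinv z)
      let σ₂ : Equiv.Perm ↥(Oᶜ : Set Ω) := P.subtypePerm hinv'
      have hσ₁ : σ₁ ^ r ^ 1 = 1 := by
        show (P.subtypePerm hinv) ^ r ^ 1 = 1
        rw [Equiv.Perm.subtypePerm_pow]
        ext z
        show (P ^ r ^ 1) (z : Ω) = (z : Ω)
        rw [hPr]
        rfl
      have hσ₂ : σ₂ ^ r ^ 1 = 1 := by
        show (P.subtypePerm hinv') ^ r ^ 1 = 1
        rw [Equiv.Perm.subtypePerm_pow]
        ext z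
        show (P ^ r ^ 1) (z : Ω) = (z : Ω)
        rw [hPr]
        rfl
      have hα'O : g • α₀ ∈ O := ⟨⟨g, hg⟩, rfl⟩
      have hfixO : ∀ z : O, σ₁ z = z ↔ (z = ⟨α₀, MulAction.mem_orbit_self α₀⟩ ∨ z = ⟨g • α₀, hα'O⟩) := by
        intro z
        constructor
        · intro hz
          by_contra hh
          push Not at hh
          exact hy1 (three_points hfix hyα hyα' (congrArg Subtype.val hz : y • (z : Ω) = z)
            (Ne.symm hgα) (fun e => hh.1 (Subtype.ext e.symm)) (fun e => hh.2 (Subtype.ext e.symm)))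
        · rintro (rfl | rfl)
          · exact Subtype.ext hyα
          · exact Subtype.ext hyα'
      have hnd : ¬ r ∣ Fintype.card ↥(Oᶜ : Set Ω) := by
        intro hd
        let F : Function.End O := fun z => σ₁ z
        have hF : F ^ r ^ 1 = 1 := by
          have key : ∀ (j : ℕ) (z : O), (F ^ j : Function.End O) z = (σ₁ ^ j) z := by
            intro j
            induction j with
            | zero => intro z; rfl
            | succ j ih =>
              intro z
              rw [pow_succ, pow_succ, Equiv.Perm.mul_apply, ← ih (σ₁ z)]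
              rfl
          funext z
          rw [key, hσ₁]
          rfl
        have hm := Equiv.Perm.card_fixedPoints_modEq hF
        have h2 : Nat.card ↥(Function.fixedPoints F) = 2 := by
          rw [Nat.card_coe_set_eq]
          have : Function.fixedPoints F = {⟨α₀, MulAction.mem_orbit_self α₀⟩, ⟨g • α₀, hα'O⟩} := by
            ext z
            simp only [Set.mem_insert_iff, Set.mem_singleton_iff]
            exact hfixO z
          rw [this]
          exact Set.ncard_pair fun e => hgα (congrArg Subtype.val e).symm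
        rw [← Nat.card_eq_fintype_card (α := Function.fixedPoints F), h2] at hm
        have h3 : r ∣ 2 := (hm.dvd_iff dvd_rfl).mp (hcardC ▸ hd)
        exact hr2 ((Nat.prime_dvd_prime_iff_eq hr Nat.prime_two).mp h3)
      obtain ⟨⟨z, hz⟩, hzfix⟩ := Equiv.Perm.exists_fixed_point_of_prime hnd hσ₂
      refine hy1 (three_points hfix hyα hyα' (congrArg Subtype.val hzfix : y • z = z)
        (Ne.symm hgα) ?_ ?_)
      · rintro rfl; exact hz (MulAction.mem_orbit_self α₀)
      · rintro rfl; exact hz hα'O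

end CfsgLib.FixityTwo
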